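import Cfsg.Agent.Lib.Char.NineDihedral.Apply
import Cfsg.Agent.Lib.Char.NineTI.Descent

/-!
# A self-centralizing Sylow `3²` with dihedral automizer: coordinates and a linear character
-/

set_option autoImplicit false
set_option linter.unusedSectionVars false

namespace CfsgLib.Char.NineSym

open Cfsg CfsgLib.Char CfsgLib.Char.NineDihedral

universe u

/-- Coordinates on a subgroup with the dihedral group of order eight acting. -/
structure Coord {G : Type u} [Group G] (S : Subgroup G) where
  /-- the coordinates -/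
  el : NineTI.V9 → G
  /-- the representatives -/
  rep : DihedralGroup 4 →* G
  mem : ∀ v, el v ∈ S
  add : ∀ v w, el (v + w) = el v * el w
  inj : Function.Injective el
  surj : ∀ s ∈ S, ∃ v, el v = s
  act : ∀ g v, rep g * el v * (rep g)⁻¹ = el (actFn g v)
  repN : ∀ g, rep g ∈ Subgroup.normalizer (S : Set G)
  cover : ∀ y ∈ Subgroup.normalizer (S : Set G), ∃ g, (rep g)⁻¹ * y ∈ S
  loc : ∀ s ∈ S, s ≠ 1 → Subgroup.centralizer ({s} : Set G) ≤ Subgroup.normalizer (S : Set G)
  cube_mem : ∀ y ∈ Subgroup.normalizer (S : Set G), y ^ 3 = 1 → y ∈ S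

variable {G : Type u} [Group G] [Finite G]

/-- Coordinates and a non-trivial linear character. -/
theorem exists_coord (P : Sylow 3 G) (hM9 : Nat.card (P : Subgroup G) = 9)
    (hCM : Subgroup.centralizer ((P : Subgroup G) : Set G) = (P : Subgroup G))
    (eN : ↥(Subgroup.normalizer ((P : Subgroup G) : Set G)) ⧸
      (P : Subgroup G).subgroupOf (Subgroup.normalizer ((P : Subgroup G) : Set G)) ≃* DihedralGroup 4)
    (hCg : ∀ g ∈ (P : Subgroup G), g ≠ 1 →
      Subgroup.centralizer ({g} : Set G) ≤ Subgroup.normalizer ((P : Subgroup G) : Set G)) :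
    Nonempty (Coord (P : Subgroup G)) ∧ ∃ f : G →* ℂˣ, f ≠ 1 := by
  classical
  have := Fintype.ofFinite G
  have : Fact (Nat.Prime 3) := ⟨Nat.prime_three⟩
  have : Fact (Nat.Prime 2) := ⟨Nat.prime_two⟩
  set V : Subgroup G := (P : Subgroup G) with hVdef
  set N := Subgroup.normalizer (V : Set G) with hN
  have hVN : V ≤ N := Subgroup.le_normalizer
  have hab : ∀ a b : V, a * b = b * a := fun a b => by
    have ha : (a : G) ∈ Subgroup.centralizer (V : Set G) := hCM.symm ▸ a.2
    exact Subtype.ext (Subgroup.mem_centralizer_iff.1 ha b b.2).symm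
  let _ : CommGroup V := { (inferInstance : Group V) with mul_comm := hab }
  let c₀ : N →* MulAut V := Subgroup.normalizerMonoidHom V
  have hker : c₀.ker = V.subgroupOf N := by
    show (Subgroup.normalizerMonoidHom V).ker = _
    rw [Subgroup.normalizerMonoidHom_ker, hCM]
  -- a cyclic group has abelian automizer
  have hMel : ∀ m ∈ V, m ^ 3 = 1 := by
    by_contra hcon
    push Not at hcon
    obtain ⟨m, hm, hm3⟩ := hcon
    have hord : orderOf (⟨m, hm⟩ : V) = 9 := by
      have hd : orderOf (⟨m, hm⟩ : V) ∣ 3 ^ 2 := by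
        rw [show (3 : ℕ) ^ 2 = 9 from rfl, ← hM9]; exact orderOf_dvd_natCard _
      obtain ⟨i, hi, hi'⟩ := (Nat.dvd_prime_pow Nat.prime_three).1 hd
      interval_cases i
      · exact absurd (by
          have h1 : (⟨m, hm⟩ : V) = 1 := orderOf_eq_one_iff.1 hi'
          rw [show m = 1 from congrArg Subtype.val h1, one_pow]) hm3
      · exact absurd (congrArg Subtype.val (orderOf_dvd_iff_pow_eq_one.1 (dvd_of_eq hi') :
          (⟨m, hm⟩ : V) ^ (3 ^ 1) = 1)) (by simpa using hm3)
      · exact hi'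
    have hgen : ∀ v : V, v ∈ Subgroup.zpowers (⟨m, hm⟩ : V) := fun v => by
      rw [Subgroup.eq_top_of_card_eq (Subgroup.zpowers (⟨m, hm⟩ : V)) (by rw [Nat.card_zpowers, hord, hM9])]
      exact Subgroup.mem_top v
    have hcomm : ∀ φ ψ : MulAut V, φ * ψ = ψ * φ := by
      intro φ ψ
      obtain ⟨i, hi⟩ := Subgroup.mem_zpowers_iff.1 (hgen (φ ⟨m, hm⟩))
      obtain ⟨j, hj⟩ := Subgroup.mem_zpowers_iff.1 (hgen (ψ ⟨m, hm⟩))
      refine MulEquiv.ext fun v => ?_
      obtain ⟨k, rfl⟩ := Subgroup.mem_zpowers_iff.1 (hgen v)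
      show φ (ψ (_ ^ k)) = ψ (φ (_ ^ k))
      rw [map_zpow, map_zpow, map_zpow, map_zpow, ← hj, map_zpow, ← hi, map_zpow, ← hj, ← zpow_mul,
        ← zpow_mul, ← zpow_mul, ← zpow_mul]
      congr 1
      ring
    have hq : ∀ p q : N ⧸ V.subgroupOf N, p * q = q * p := by
      intro p q
      obtain ⟨a, rfl⟩ := QuotientGroup.mk_surjective p
      obtain ⟨b, rfl⟩ := QuotientGroup.mk_surjective q
      rw [← QuotientGroup.mk_mul, ← QuotientGroup.mk_mul, QuotientGroup.eq, ← hker, MonoidHom.mem_ker,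
        map_mul, map_inv, map_mul, map_mul, hcomm (c₀ b) (c₀ a), inv_mul_cancel]
    have hne : DihedralGroup.r (1 : ZMod 4) * DihedralGroup.sr 0 ≠ DihedralGroup.sr 0 * DihedralGroup.r 1 := by
      decide
    refine hne ?_
    have := congrArg eN (hq (eN.symm (DihedralGroup.r 1)) (eN.symm (DihedralGroup.sr 0)))
    simpa using this
  -- the Sylow two-subgroup of the normalizer is a complement
  have h9 : Nat.card (V.subgroupOf N) = 9 := (Nat.card_congr (Subgroup.subgroupOfEquivOfLe hVN).toEquiv).trans hM9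
  have hq8 : Nat.card (N ⧸ V.subgroupOf N) = 8 := by
    rw [Nat.card_congr eN.toEquiv, DihedralGroup.nat_card]
  have h72 : Nat.card N = 72 := by
    rw [Subgroup.card_eq_card_quotient_mul_card_subgroup (V.subgroupOf N), hq8, h9]
  let S : Sylow 2 N := default
  have hS8 : Nat.card (S : Subgroup N) = 8 := by
    rw [S.card_eq_multiplicity, h72, show 72 = 2 ^ 3 * 9 by norm_num,
      Nat.factorization_mul (by norm_num) (by norm_num), Finsupp.add_apply,
      Nat.Prime.factorization_pow Nat.prime_two, Finsupp.single_eq_same,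
      Nat.factorization_eq_zero_of_not_dvd (by norm_num)]
    rfl
  have htriv : ∀ (s : (S : Subgroup N)), ((s : N) : G) ∈ V → s = 1 := by
    intro s hs
    have h1 : orderOf s ∣ 8 := hS8 ▸ orderOf_dvd_natCard s
    have h3 : s ^ 3 = 1 := Subtype.ext (Subtype.ext (by simpa using hMel _ hs))
    have h2 := orderOf_dvd_of_pow_eq_one h3
    exact orderOf_eq_one_iff.1 (Nat.eq_one_of_dvd_coprimes (show Nat.Coprime 8 3 by decide) h1 h2)
  let q : (S : Subgroup N) →* N ⧸ V.subgroupOf N :=
    (QuotientGroup.mk' (V.subgroupOf N)).comp (S : Subgroup N).subtype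
  have hqb : Function.Bijective q := by
    rw [Nat.bijective_iff_injective_and_card, injective_iff_map_eq_one]
    exact ⟨fun s hs => htriv s (Subgroup.mem_subgroupOf.1 ((QuotientGroup.eq_one_iff _).1 hs)), hS8.trans hq8.symm⟩
  let e : (S : Subgroup N) ≃* DihedralGroup 4 := (MulEquiv.ofBijective q hqb).trans eN
  let c : DihedralGroup 4 →* MulAut V := c₀.comp ((S : Subgroup N).subtype.comp e.symm.toMonoidHom)
  have hcinj : Function.Injective c := by
    rw [injective_iff_map_eq_one]
    intro g hg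
    have h1 : ((e.symm g : (S : Subgroup N)) : N) ∈ c₀.ker := hg
    rw [hker, Subgroup.mem_subgroupOf] at h1
    exact (map_eq_one_iff e.symm e.symm.injective).1 (htriv _ h1)
  obtain ⟨ψ, hψ, hcompat⟩ := exists_basis (V := V) hM9 (fun x => Subtype.ext (hMel x x.2)) c hcinj
  let f₁ : Multiplicative Vec →* N := (Subgroup.inclusion hVN).comp ψ
  let f₂ : DihedralGroup 4 →* N := (S : Subgroup N).subtype.comp e.symm.toMonoidHom
  have hlift : ∀ g, f₁.comp (act g).toMonoidHom = (MulAut.conj (f₂ g)).toMonoidHom.comp f₁ := by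
    intro g
    refine MonoidHom.ext fun w => Subtype.ext ?_
    show ((ψ (act g w) : V) : G) = ((f₂ g : N) : G) * (ψ w : V) * ((f₂ g : N) : G)⁻¹
    rw [hcompat]
    rfl
  let Φ : M →* N := SemidirectProduct.lift f₁ f₂ hlift
  have hΦ : Function.Bijective Φ := by
    rw [Nat.bijective_iff_injective_and_card, injective_iff_map_eq_one]
    refine ⟨fun x hx => ?_, by rw [h72, Nat.card_eq_fintype_card, card_M]⟩
    have hx' : f₁ x.left * f₂ x.right = 1 := hx
    have hr : e.symm x.right = 1 := by
      refine htriv _ ?_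
      have : ((f₂ x.right : N) : G) = ((ψ x.left : V) : G)⁻¹ := by
        have := congrArg (fun z : N => (z : G)) hx'
        exact eq_inv_of_mul_eq_one_right this
      show ((f₂ x.right : N) : G) ∈ V
      rw [this]
      exact V.inv_mem (ψ x.left).2
    have hr1 : x.right = 1 := (map_eq_one_iff e.symm e.symm.injective).1 hr
    refine SemidirectProduct.ext (hψ.1 ?_) hr1
    rw [hr1, map_one, mul_one] at hx'
    rw [SemidirectProduct.one_left, map_one]
    exact Subtype.ext (congrArg (fun z : N => (z : G)) hx' : ((ψ x.left : V) : G) = 1)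
  let φ : N ≃* M := (MulEquiv.ofBijective Φ hΦ).symm
  have hInV : ∀ j : N, InV (φ j) ↔ (j : G) ∈ V ∧ (j : G) ≠ 1 := by
    intro j
    obtain ⟨x, rfl⟩ := hΦ.2 j
    rw [show φ (Φ x) = x from (MulEquiv.ofBijective Φ hΦ).symm_apply_apply x]
    have hΦx : ((Φ x : N) : G) = (ψ x.left : V) * ((f₂ x.right : N) : G) := rfl
    have hne : ((Φ x : N) : G) ≠ 1 ↔ x ≠ 1 := not_congr
      (OneMemClass.coe_eq_one.trans (map_eq_one_iff Φ hΦ.1))
    rw [hne, hΦx, InV, and_congr_left_iff]
    intro _
    refine ⟨fun hr => by rw [hr, map_one]; simp, fun hm => ?_⟩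
    refine (map_eq_one_iff e.symm e.symm.injective).1 (htriv _ ?_)
    exact (Subgroup.mul_mem_cancel_left V (ψ x.left).2).1 hm
  have hEmb : Emb N φ := by
    refine ⟨fun j hj => hCg _ ((hInV j).1 hj).1 ((hInV j).1 hj).2, fun g hg => ?_⟩
    refine Subgroup.mem_normalizer_iff_map_conj_eq.2 (Subgroup.eq_of_le_of_card_ge ?_ ?_)
    · rintro _ ⟨v, hv, rfl⟩
      by_cases hv1 : v = 1
      · subst hv1; simp
      · obtain ⟨j', hj', hj''⟩ := hg ⟨v, hVN hv⟩ ((hInV _).2 ⟨hv, hv1⟩)
        have := ((hInV j').1 hj').1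
        rwa [hj''] at this
    · exact (Subgroup.card_map_of_injective (MulAut.conj g).injective).ge
  refine ⟨⟨?_⟩, hEmb.exists_hom_ne_one⟩
  exact
    { el := fun v => ((ψ (Multiplicative.ofAdd v) : V) : G)
      rep := N.subtype.comp f₂
      mem := fun v => (ψ (Multiplicative.ofAdd v)).2
      add := fun v w => by rw [ofAdd_add, map_mul, Subgroup.coe_mul]
      inj := fun v w h => Multiplicative.ofAdd.injective (hψ.1 (Subtype.ext h))
      surj := fun s hs => by
        obtain ⟨w, hw⟩ := hψ.2 ⟨s, hs⟩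
        exact ⟨w.toAdd, by rw [ofAdd_toAdd, hw]⟩
      act := fun g v => by
        have := congrArg (fun z : N => (z : G)) (DFunLike.congr_fun (hlift g) (Multiplicative.ofAdd v))
        exact this.symm
      repN := fun g => (f₂ g).2
      cover := fun y hy => by
        obtain ⟨s, hs⟩ := hqb.2 (QuotientGroup.mk (⟨y, hy⟩ : N))
        refine ⟨e s, ?_⟩
        have h1 := Subgroup.mem_subgroupOf.1 (QuotientGroup.eq.1 hs)
        show ((((e.symm (e s) : (S : Subgroup N)) : N) : G))⁻¹ * y ∈ V
        rw [e.symm_apply_apply]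
        exact h1
      loc := hCg
      cube_mem := fun y hy hy3 => NineTI.cube_mem_normalizer P rfl hy hy3 }

end CfsgLib.Char.NineSym
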