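import Cfsg.Agent.Lib.Perm.Groups.AltAut

/-!
# Extensions of the alternating group of degree six fusing no two classes of elements of order three
-/

set_option autoImplicit false
set_option linter.unusedSectionVars false

namespace CfsgLib.Char.NineSym

open Equiv Equiv.Perm CfsgLib.Perm.Groups.AltAut

universe u

/-- A permutation commuting with every even permutation is trivial. -/
theorem eq_one_of_conj_fix {Ω : Type*} [Fintype Ω] [DecidableEq Ω] (hn : 4 ≤ Fintype.card Ω) (s : Perm Ω)
    (hs : ∀ g : alternatingGroup Ω, s * (g : Perm Ω) * s⁻¹ = g) : s = 1 := by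
  refine Equiv.ext fun x => ?_
  by_contra hx
  rw [Perm.one_apply] at hx
  obtain ⟨y, hy⟩ : ∃ y, y ∉ ({x, s x} : Finset Ω) := by
    by_contra hc
    push Not at hc
    have := Finset.card_le_card (show (Finset.univ : Finset Ω) ⊆ {x, s x} from fun z _ => hc z)
    rw [Finset.card_univ] at this
    have := Finset.card_le_two (a := x) (b := s x)
    omega
  obtain ⟨z, hz⟩ : ∃ z, z ∉ ({x, s x, y} : Finset Ω) := by
    by_contra hc
    push Not at hc
    have := Finset.card_le_card (show (Finset.univ : Finset Ω) ⊆ {x, s x, y} from fun w _ => hc w)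
    rw [Finset.card_univ] at this
    have := Finset.card_le_three (a := x) (b := s x) (c := y)
    omega
  simp only [Finset.mem_insert, Finset.mem_singleton, not_or] at hy hz
  have hm := (cyc_isThreeCycle (Ne.symm hy.2) (Ne.symm hz.2.1) (Ne.symm hz.2.2)).mem_alternatingGroup
  have h1 := congrArg (fun w : Perm Ω => w (s x)) (hs ⟨_, hm⟩)
  simp only [Perm.mul_apply] at h1
  rw [show s⁻¹ (s x) = x from s.symm_apply_apply x,
    cyc_apply_other (Ne.symm hx) (Ne.symm hy.1) (Ne.symm hz.1), cyc_apply₁ (Ne.symm hy.2) (Ne.symm hz.2.1)] at h1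
  exact hy.2 h1.symm

variable {G : Type u} [Group G] [Finite G]

/-- Index two, trivial centralizer, classes of elements of order three preserved: the symmetric group. -/
theorem mulEquiv_perm_six (K : Subgroup G) [K.Normal] (hidx : K.index = 2) (e : K ≃* alternatingGroup (Fin 6))
    (hC : ∀ g : G, (∀ x ∈ K, g * x * g⁻¹ = x) → g = 1)
    (hclass : ∀ (g : G) (x : K), x ^ 3 = 1 → ∃ k : K, g * (x : G) * g⁻¹ = k * x * (k : G)⁻¹) :
    Nonempty (G ≃* Equiv.Perm (Fin 6)) := by
  classical
  let Φ : G → alternatingGroup (Fin 6) ≃* alternatingGroup (Fin 6) := fun g =>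
    e.symm.trans ((MulAut.conjNormal g).trans e)
  have hΦ : ∀ g x, Φ g (e x) = e (MulAut.conjNormal g x) := fun g x => by simp [Φ]
  have h3 : ∀ g, ∀ y : alternatingGroup (Fin 6), (y : Perm (Fin 6)).IsThreeCycle →
      (Φ g y : Perm (Fin 6)).IsThreeCycle := by
    intro g y hy
    obtain ⟨x, rfl⟩ := e.surjective y
    have hx3 : x ^ 3 = 1 := by
      apply e.injective
      rw [map_pow, map_one]
      refine Subtype.ext ?_
      rw [SubmonoidClass.coe_pow, ← hy.orderOf]
      exact pow_orderOf_eq_one _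
    obtain ⟨k, hk⟩ := hclass g x hx3
    have : MulAut.conjNormal g x = k * x * k⁻¹ := Subtype.ext (by rw [MulAut.conjNormal_apply, hk]; rfl)
    rw [hΦ, this, map_mul, map_mul, map_inv]
    show ((e k : Perm (Fin 6)) * (e x : Perm (Fin 6)) * (e k : Perm (Fin 6))⁻¹).IsThreeCycle
    rw [Perm.IsThreeCycle, Perm.cycleType_conj]
    exact hy
  have hex : ∀ g, ∃ σ : Perm (Fin 6), ∀ y, (Φ g y : Perm (Fin 6)) = σ * y * σ⁻¹ := fun g =>
    exists_conj_of_three_cycles (by simp) (Φ g) (h3 g)
  choose σ hσ using hex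
  have huniq : ∀ s t : Perm (Fin 6), (∀ y : alternatingGroup (Fin 6), s * (y : Perm (Fin 6)) * s⁻¹ =
      t * (y : Perm (Fin 6)) * t⁻¹) → s = t := by
    intro s t h
    have := eq_one_of_conj_fix (Ω := Fin 6) (by simp) (t⁻¹ * s) fun y => by
      calc t⁻¹ * s * (y : Perm (Fin 6)) * (t⁻¹ * s)⁻¹ = t⁻¹ * (s * y * s⁻¹) * t := by group
        _ = t⁻¹ * (t * y * t⁻¹) * t := by rw [h y]
        _ = y := by group
    exact (inv_mul_eq_one.1 this).symm
  let ρ : G →* Perm (Fin 6) := MonoidHom.mk' σ fun g g' => huniq _ _ fun y => by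
    rw [← hσ]
    have e2 : Φ (g * g') y = Φ g (Φ g' y) := by simp [Φ]
    rw [e2, hσ, hσ]
    group
  have hinj : Function.Injective ρ := by
    rw [injective_iff_map_eq_one]
    intro g hg
    refine hC g fun x hx => ?_
    have h1 := hσ g (e ⟨x, hx⟩)
    rw [show σ g = 1 from hg, one_mul, inv_one, mul_one, hΦ] at h1
    have h2 := congrArg Subtype.val (e.injective (Subtype.ext h1))
    rwa [MulAut.conjNormal_apply] at h2
  have hcard : Nat.card G = Nat.card (Perm (Fin 6)) := by
    rw [← K.card_mul_index, hidx, Nat.card_congr e.toEquiv, nat_card_alternatingGroup, Nat.card_perm,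
      Nat.card_fin]
    decide
  exact ⟨MulEquiv.ofBijective ρ ((Nat.bijective_iff_injective_and_card ρ).2 ⟨hinj, hcard⟩)⟩

end CfsgLib.Char.NineSym
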