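import Cfsg.Agent.Lib.Char.NineSym.Data
import Cfsg.Agent.Lib.Char.NineSym.SymSix
import Cfsg.Agent.Lib.Char.NineKlein.Main

/-!
# Recognition of the symmetric group of degree six
-/

set_option autoImplicit false
set_option linter.unusedSectionVars false

namespace CfsgLib.Char.NineSym

open Cfsg CfsgLib.Char CfsgLib.Char.NineDihedral

universe u

theorem three_zero : ∀ v : NineTI.V9, v + v + v = 0 := by decide
theorem two_turn : ∀ v : NineTI.V9, actFn (.r 2) v = -v := by decide +kernel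
theorem r_two_comm : (DihedralGroup.r 2 : DihedralGroup 4) = .sr 0 * .r 1 * .sr 0 * .r 3 := by decide
theorem d4_fix_all : ∀ g : DihedralGroup 4, (∀ v, actFn g v = v) → g = 1 := by decide +kernel
theorem act_fix_zero : ∀ v : NineTI.V9, actFn (.r 1) v = v → v = 0 := by decide +kernel
theorem act_r : ∀ (j : Fin 4) (v : NineTI.V9),
    actFn (.r (![0, 1, 2, 3] j)) v = NineTI.rot4 j v := by decide +kernel
theorem r_distinct : ∀ i j : Fin 4, (∀ v, NineTI.rot4 i v = NineTI.rot4 j v) → i = j := by decide +kernel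
theorem orbit_stable : ∀ (g : DihedralGroup 4) (v : NineTI.V9), ∃ j, NineTI.rot4 j v = actFn g v ∨ v = 0 := by
  decide +kernel
theorem rot_fix : ∀ (j : Fin 4) (v : NineTI.V9), v ≠ 0 → NineTI.rot4 j v = v → j = 0 := by decide +kernel

/-- The axial four-group. -/
def gsA : Fin 4 → DihedralGroup 4 := ![1, .sr 0, .sr 2, .r 2]
/-- The diagonal four-group. -/
def gsB : Fin 4 → DihedralGroup 4 := ![1, .sr 3, .sr 1, .r 2]
/-- The diagonal coordinates. -/
def tmB (v : NineTI.V9) : NineTI.V9 := (v.1 + v.2, v.1 - v.2)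

theorem act_A : ∀ j v, actFn (gsA j) v = NineKlein.sgn4 j v := by decide +kernel
theorem act_B : ∀ j v, actFn (gsB j) (tmB v) = tmB (NineKlein.sgn4 j v) := by decide +kernel
theorem tmB_facts : (∀ v w, tmB (v + w) = tmB v + tmB w) ∧ (∀ v w, tmB v = tmB w → v = w) ∧
    (∀ w, ∃ v, tmB v = w) := by decide +kernel

variable {G : Type u} [Group G]

theorem Coord.el_zero {S : Subgroup G} (C : Coord S) : C.el 0 = 1 := by
  have h1 := C.add 0 0
  rw [add_zero] at h1
  exact left_eq_mul.1 h1

theorem Coord.el_neg {S : Subgroup G} (C : Coord S) (v : NineTI.V9) : C.el (-v) = (C.el v)⁻¹ :=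
  eq_inv_of_mul_eq_one_left (by rw [← C.add, neg_add_cancel, C.el_zero])

theorem Coord.comm {S : Subgroup G} (C : Coord S) {a b : G} (ha : a ∈ S) (hb : b ∈ S) : a * b = b * a := by
  obtain ⟨v, rfl⟩ := C.surj a ha
  obtain ⟨w, rfl⟩ := C.surj b hb
  rw [← C.add, ← C.add, add_comm]

theorem Coord.cube {S : Subgroup G} (C : Coord S) {a : G} (ha : a ∈ S) : a ^ 3 = 1 := by
  obtain ⟨v, rfl⟩ := C.surj a ha
  rw [pow_succ, pow_two, ← C.add, ← C.add, ← C.el_zero]
  exact congrArg C.el (three_zero v)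

theorem Coord.act_mul {S : Subgroup G} (C : Coord S) {g : DihedralGroup 4} {y : G}
    (hy : (C.rep g)⁻¹ * y ∈ S) (v : NineTI.V9) : y * C.el v * y⁻¹ = C.el (actFn g v) := by
  rw [← C.act]
  calc y * C.el v * y⁻¹ = C.rep g * (((C.rep g)⁻¹ * y) * C.el v) *
        ((C.rep g)⁻¹ * y)⁻¹ * (C.rep g)⁻¹ := by group
    _ = C.rep g * C.el v * (C.rep g)⁻¹ := by rw [C.comm hy (C.mem v)]; group

variable [Finite G]

/-- The recognition theorem, in coordinates. -/
theorem normal_or_sym_six (P : Sylow 3 G) {S : Subgroup G} (hP : (P : Subgroup G) = S) (C : Coord S)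
    {f : G →* ℂˣ} (hf : f ≠ 1) : S.Normal ∨ Nonempty (G ≃* Equiv.Perm (Fin 6)) := by
  classical
  have hne1 : (-1 : ℂˣ) ≠ 1 := fun e => by
    have := congrArg Units.val e
    norm_num at this
  have hS1 : ∀ s ∈ S, f s = 1 := by
    intro s hs
    obtain ⟨v, rfl⟩ := C.surj s hs
    have e1 := congrArg f (C.act (.r 2) v)
    rw [map_mul, map_mul, map_inv, two_turn, C.el_neg, map_inv, mul_comm (f (C.rep _)),
      mul_inv_cancel_right] at e1
    have e3 : f (C.el v) ^ 3 = 1 := by rw [← map_pow, C.cube (C.mem v), map_one]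
    have e2 : f (C.el v) ^ 2 = 1 := by rw [pow_two]; nth_rewrite 1 [e1]; rw [inv_mul_cancel]
    calc f (C.el v) = f (C.el v) ^ 3 * (f (C.el v) ^ 2)⁻¹ := by group
      _ = 1 := by rw [e3, e2]; group
  have hsq : ∀ z : ℂˣ, z * z = 1 → z = 1 ∨ z = -1 := fun z hz => by
    have h' : (z : ℂ) * z = 1 := by rw [← Units.val_mul, hz, Units.val_one]
    rcases mul_self_eq_one_iff.1 h' with e | e
    · exact Or.inl (Units.ext e)
    · exact Or.inr (Units.ext (by rw [e]; simp))
  let ρ : DihedralGroup 4 →* ℂˣ := f.comp C.rep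
  have hb2 : ρ (.sr 0) * ρ (.sr 0) = 1 := by
    rw [← map_mul, show (DihedralGroup.sr 0 : DihedralGroup 4) * .sr 0 = 1 by decide, map_one]
  have ha2 : ρ (.r 1) * ρ (.r 1) = 1 := by
    have h13 : ρ (.r 1) * ρ (.r 3) = 1 := by
      rw [← map_mul, show (DihedralGroup.r 1 : DihedralGroup 4) * .r 3 = 1 by decide, map_one]
    have e : ρ (.r 2) = 1 := by
      rw [r_two_comm, map_mul, map_mul, map_mul, mul_right_comm (ρ (.sr 0)), hb2, one_mul, h13]
    rw [← map_mul, show (DihedralGroup.r 1 : DihedralGroup 4) * .r 1 = .r 2 by decide, e]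
  have hcase : ∀ g : DihedralGroup 4, ∃ k : Fin 4,
      (g = DihedralGroup.r 1 ^ k.val ∧ ρ g = ρ (.r 1) ^ k.val) ∨
      (g = DihedralGroup.sr 0 * DihedralGroup.r 1 ^ k.val ∧ ρ g = ρ (.sr 0) * ρ (.r 1) ^ k.val) := by
    intro g
    obtain ⟨k, rfl | rfl⟩ := dihedral_cases g
    · exact ⟨k, Or.inl ⟨rfl, map_pow _ _ _⟩⟩
    · exact ⟨k, Or.inr ⟨rfl, by rw [map_mul, map_pow]⟩⟩
  have hval : ∀ g, ρ g = 1 ∨ ρ g = -1 := by
    intro g
    refine hsq _ ?_
    obtain ⟨k, ⟨-, e⟩ | ⟨-, e⟩⟩ := hcase g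
    · rw [e, ← mul_pow, ha2, one_pow]
    · rw [e, mul_mul_mul_comm, hb2, one_mul, ← mul_pow, ha2, one_pow]
  have hfN : ∀ y ∈ Subgroup.normalizer (S : Set G), ∃ g, (C.rep g)⁻¹ * y ∈ S ∧ f y = ρ g := by
    intro y hy
    obtain ⟨g, hg⟩ := C.cover y hy
    have := hS1 _ hg
    rw [map_mul, map_inv, inv_mul_eq_one] at this
    exact ⟨g, hg, this.symm⟩
  have hfG : ∀ x, ∃ g, f x = ρ g := by
    intro x
    obtain ⟨n, hn, e⟩ := NineTI.exists_normalizer_eq P hP f hS1 x
    obtain ⟨g, -, e'⟩ := hfN n hn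
    exact ⟨g, e.symm.trans e'⟩
  obtain ⟨g₀, hg₀⟩ : ∃ g₀, ρ g₀ = -1 := by
    by_contra hc
    push Not at hc
    refine hf (MonoidHom.ext fun x => ?_)
    obtain ⟨g, e⟩ := hfG x
    rw [e, MonoidHom.one_apply]
    exact (hval g).resolve_right (hc g)
  set K := f.ker with hKdef
  have hSK : S ≤ K := fun s hs => hS1 s hs
  let P' : Sylow 3 K := P.subtype (hP ▸ hSK)
  have hP' : (P' : Subgroup K) = S.subgroupOf K := by rw [Sylow.coe_subtype, hP]
  -- normality passes from the kernel
  have hup : (∀ y ∈ K, y ∈ Subgroup.normalizer (S : Set G)) → S.Normal := fun hKN =>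
    ⟨fun x hx g => C.cube_mem _ (hKN _ ((MonoidHom.normal_ker f).conj_mem x (hSK hx) g))
      (by rw [conj_pow, C.cube hx]; group)⟩
  -- the four-group cases
  have hklein : ∀ (gs : Fin 4 → DihedralGroup 4) (Tm : NineTI.V9 → NineTI.V9),
      (∀ v w, Tm (v + w) = Tm v + Tm w) → (∀ v w, Tm v = Tm w → v = w) → (∀ w, ∃ v, Tm v = w) →
      (∀ j v, actFn (gs j) (Tm v) = Tm (NineKlein.sgn4 j v)) → gs 0 = 1 →
      (∀ j, ρ (gs j) = 1) → (∀ g, ρ g = 1 → ∃ j, gs j = g) → S.Normal := by
    intro gs Tm hadd hinj hsurj hact h0 hin hlist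
    let KH : NineKlein.KHyp (S.subgroupOf K) :=
      { el := fun v => ⟨C.el (Tm v), hSK (C.mem _)⟩
        rep := fun j => ⟨C.rep (gs j), hin j⟩
        mem := fun v => C.mem _
        add := fun v w => Subtype.ext (by
          show C.el (Tm (v + w)) = C.el (Tm v) * C.el (Tm w)
          rw [hadd, C.add])
        inj := fun v w e => hinj _ _ (C.inj (congrArg Subtype.val e))
        surj := fun t ht => by
          obtain ⟨w, hw⟩ := C.surj _ (Subgroup.mem_subgroupOf.1 ht)
          obtain ⟨v, rfl⟩ := hsurj w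
          exact ⟨v, Subtype.ext hw⟩
        act := fun j v => Subtype.ext (by
          show C.rep (gs j) * C.el (Tm v) * (C.rep (gs j))⁻¹ = C.el (Tm (NineKlein.sgn4 j v))
          rw [C.act, hact])
        repN := fun j => Subgroup.le_normalizer_comap K.subtype (C.repN (gs j))
        cover := fun y hy => by
          obtain ⟨g, hg, e⟩ := hfN _ (NineTI.mem_normalizer_subgroupOf hSK hy)
          obtain ⟨j, rfl⟩ := hlist g (e.symm.trans (MonoidHom.mem_ker.1 y.2))
          exact ⟨j, Subgroup.mem_subgroupOf.2 hg⟩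
        rep_zero := Subtype.ext (by show C.rep (gs 0) = 1; rw [h0, map_one])
        loc := fun t ht ht1 y hy => by
          have hm := C.loc (t : G) ht (fun e => ht1 (Subtype.ext e))
            (Subgroup.mem_centralizer_singleton_iff.2 (congrArg Subtype.val
              (Subgroup.mem_centralizer_singleton_iff.1 hy)))
          exact Subgroup.le_normalizer_comap K.subtype hm
        cube_mem := fun y hy hy3 => NineTI.cube_mem_normalizer P' hP' hy hy3 }
    haveI := Fintype.ofFinite K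
    have htop := KH.normalizer_eq_top
    exact hup fun y hy => NineTI.mem_normalizer_subgroupOf hSK (y := ⟨y, hy⟩) (htop ▸ Subgroup.mem_top _)
  rcases hsq _ ha2 with ha | ha <;> rcases hsq _ hb2 with hb | hb
  · exfalso
    obtain ⟨k, ⟨-, e⟩ | ⟨-, e⟩⟩ := hcase g₀
    · rw [e, ha, one_pow] at hg₀; exact hne1 hg₀.symm
    · rw [e, ha, hb, one_pow, mul_one] at hg₀; exact hne1 hg₀.symm
  · -- the rotations
    have hrot : ∀ g, ρ g = 1 → ∃ j : Fin 4, DihedralGroup.r (![0, 1, 2, 3] j) = g := by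
      intro g hg
      obtain ⟨k, ⟨rfl, e⟩ | ⟨rfl, e⟩⟩ := hcase g
      · exact ⟨k, by fin_cases k <;> decide⟩
      · rw [e, ha, hb, one_pow, mul_one] at hg; exact absurd hg hne1
    have hin : ∀ j : Fin 4, ρ (DihedralGroup.r (![0, 1, 2, 3] j)) = 1 := by
      intro j
      rw [show (DihedralGroup.r (![0, 1, 2, 3] j) : DihedralGroup 4) = DihedralGroup.r 1 ^ j.val by
        revert j; decide, map_pow, ha, one_pow]
    let rj : Fin 4 → K := fun j => ⟨C.rep (DihedralGroup.r (![0, 1, 2, 3] j)), hin j⟩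
    have hcov : ∀ y : K, (y : G) ∈ Subgroup.normalizer (S : Set G) →
        ∃ j, (rj j)⁻¹ * y ∈ S.subgroupOf K := by
      intro y hy
      obtain ⟨g, hg, e⟩ := hfN _ hy
      obtain ⟨j, rfl⟩ := hrot g (e.symm.trans (MonoidHom.mem_ker.1 y.2))
      exact ⟨j, Subgroup.mem_subgroupOf.2 hg⟩
    have hH : NineTI.Hyp (S.subgroupOf K) := by
      refine ⟨?_, fun a ha => Subtype.ext (C.cube ha), fun s hs hs1 => ?_, fun y hy => ?_⟩
      · rw [Nat.card_congr (Subgroup.subgroupOfEquivOfLe hSK).toEquiv,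
          Nat.card_congr (Equiv.ofBijective (fun v => (⟨C.el v, C.mem v⟩ : S))
            ⟨fun v w e => C.inj (congrArg Subtype.val e), fun t => by
              obtain ⟨v, hv⟩ := C.surj t t.2; exact ⟨v, Subtype.ext hv⟩⟩).symm]
        simp [NineTI.V9]
      · ext y
        rw [Subgroup.mem_centralizer_singleton_iff, Subgroup.mem_subgroupOf]
        refine ⟨fun e => ?_, fun hy => Subtype.ext (C.comm hy hs)⟩
        have hy' := congrArg Subtype.val e
        have hyN := C.loc (s : G) hs (fun e1 => hs1 (Subtype.ext e1))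
          (Subgroup.mem_centralizer_singleton_iff.2 hy')
        obtain ⟨g, hg, e2⟩ := hfN _ hyN
        obtain ⟨j, rfl⟩ := hrot g (e2.symm.trans (MonoidHom.mem_ker.1 y.2))
        obtain ⟨v, hv⟩ := C.surj (s : G) hs
        have hv0 : v ≠ 0 := fun e1 => hs1 (Subtype.ext (by rw [← hv, e1, C.el_zero]; rfl))
        have hfix : NineTI.rot4 j v = v := C.inj (by
          rw [← act_r, ← C.act_mul hg, hv, show (y : G) * (s : G) = (s : G) * y from hy', mul_inv_cancel_right])
        rw [rot_fix j v hv0 hfix, show (DihedralGroup.r ((![0, 1, 2, 3] : Fin 4 → ZMod 4) 0) : DihedralGroup 4) = 1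
          from rfl, map_one, inv_one, one_mul] at hg
        exact hg
      · haveI : Fact (Nat.Prime 3) := ⟨Nat.prime_three⟩
        by_cases hy1 : y = 1
        · exact ⟨1, by simp [hy1, Subgroup.one_mem]⟩
        obtain ⟨Q, hQ⟩ := (IsPGroup.of_card (p := 3) (n := 1)
          (show Nat.card (Subgroup.zpowers y) = 3 ^ 1 by
            rw [Nat.card_zpowers, orderOf_eq_prime hy hy1, pow_one])).exists_le_sylow
        obtain ⟨g, hg⟩ := MulAction.exists_smul_eq K Q P'
        refine ⟨g, ?_⟩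
        rw [← hP', ← hg, Sylow.coe_subgroup_smul]
        exact ⟨y, hQ (Subgroup.mem_zpowers y), rfl⟩
    let F : NineTI.Frame (S.subgroupOf K) 4 :=
      { el := fun v => ⟨C.el v, hSK (C.mem v)⟩
        M := NineTI.rot4
        rep := rj
        mem := fun v => C.mem v
        add := fun v w => Subtype.ext (C.add v w)
        inj := fun v w e => C.inj (congrArg Subtype.val e)
        act := fun j v => Subtype.ext (by
          show C.rep _ * C.el v * (C.rep _)⁻¹ = C.el _
          rw [C.act, act_r])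
        repN := fun j => Subgroup.le_normalizer_comap K.subtype (C.repN _)
        cover := fun y hy => hcov y (NineTI.mem_normalizer_subgroupOf hSK hy)
        distinct := fun i j hij => by
          refine r_distinct i j fun v => C.inj ?_
          rw [← act_r i, ← act_r j, ← C.act (DihedralGroup.r (![0, 1, 2, 3] j))]
          exact (C.act_mul (Subgroup.mem_subgroupOf.1 hij) v).symm }
    rcases NineTI.normal_or_alt_six_of_four hH P' hP' F rfl with hn | ⟨⟨eK⟩⟩
    · exact Or.inl (hup fun y hy => NineTI.mem_normalizer_subgroupOf hSK (y := ⟨y, hy⟩)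
        (by rw [Subgroup.normalizer_eq_top_iff.2 hn]; trivial))
    · refine Or.inr (mulEquiv_perm_six K ?_ eK ?_ ?_)
      · rw [hKdef, Subgroup.index_ker, Nat.card_eq_two_iff]
        obtain ⟨x₀, hx₀⟩ : ∃ x, f x = -1 := ⟨C.rep g₀, hg₀⟩
        refine ⟨⟨1, Subgroup.one_mem _⟩, ⟨-1, x₀, hx₀⟩, fun e => hne1 (congrArg Subtype.val e).symm, ?_⟩
        refine Set.eq_univ_of_forall fun z => ?_
        obtain ⟨x, hx⟩ := z.2
        obtain ⟨g, e⟩ := hfG x
        rcases hval g with e' | e'
        · exact Or.inl (Subtype.ext (hx.symm.trans (e.trans e')))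
        · exact Or.inr (Subtype.ext (hx.symm.trans (e.trans e')))
      · intro g hg
        have hv : ((1, 0) : NineTI.V9) ≠ 0 := by decide
        have hgN := C.loc _ (C.mem (1, 0)) (fun e => hv (C.inj (e.trans C.el_zero.symm)))
          (Subgroup.mem_centralizer_singleton_iff.2 (mul_inv_eq_iff_eq_mul.1 (hg _ (hSK (C.mem _)))))
        obtain ⟨d, hd, -⟩ := hfN g hgN
        have hd1 : d = 1 := d4_fix_all d fun v => C.inj (by
          rw [← C.act_mul hd, hg _ (hSK (C.mem v))])
        rw [hd1, map_one, inv_one, one_mul] at hd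
        obtain ⟨v, rfl⟩ := C.surj g hd
        have hr : C.rep (.r 1) ∈ K := hin 1
        have e1 := mul_inv_eq_iff_eq_mul.1 (hg _ hr)
        have e2 : C.el (actFn (.r 1) v) = C.el v := by
          rw [← C.act, ← e1, mul_inv_cancel_right]
        rw [act_fix_zero v (C.inj e2), C.el_zero]
      · intro g x hx
        by_cases hx1 : x = 1
        · exact ⟨1, by simp [hx1]⟩
        obtain ⟨k₁, hk₁⟩ := hH.into x hx
        obtain ⟨v, hv⟩ := C.surj _ (Subgroup.mem_subgroupOf.1 hk₁)
        obtain ⟨n, hn, en⟩ := NineTI.exists_normalizer_eq P hP f hS1 g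
        obtain ⟨d, hd, -⟩ := hfN n hn
        obtain ⟨j, hj | hj⟩ := orbit_stable d v
        · have hk₂ : g * (k₁ : G)⁻¹ * n⁻¹ ∈ K := by
            refine MonoidHom.mem_ker.2 ?_
            rw [map_mul, map_mul, map_inv, map_inv, MonoidHom.mem_ker.1 k₁.2, inv_one,
              mul_one, en, mul_inv_cancel]
          refine ⟨⟨g * (k₁ : G)⁻¹ * n⁻¹, hk₂⟩ * rj j * k₁, ?_⟩
          show g * (x : G) * g⁻¹ = (g * (k₁ : G)⁻¹ * n⁻¹) * C.rep _ * (k₁ : G) * x *
            ((g * (k₁ : G)⁻¹ * n⁻¹) * C.rep _ * (k₁ : G))⁻¹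
          have e3 : n * ((k₁ : G) * x * (k₁ : G)⁻¹) * n⁻¹ = C.rep (DihedralGroup.r (![0, 1, 2, 3] j)) *
              ((k₁ : G) * x * (k₁ : G)⁻¹) * (C.rep (DihedralGroup.r (![0, 1, 2, 3] j)))⁻¹ := by
            rw [show (k₁ : G) * x * (k₁ : G)⁻¹ = C.el v from hv.symm, C.act, C.act_mul hd, act_r, hj]
          calc g * (x : G) * g⁻¹ = g * (k₁ : G)⁻¹ * n⁻¹ * (n * ((k₁ : G) * x * (k₁ : G)⁻¹) * n⁻¹) *
                (g * (k₁ : G)⁻¹ * n⁻¹)⁻¹ := by group
            _ = _ := by rw [e3]; group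
        · refine absurd ?_ hx1
          subst hj
          rw [C.el_zero] at hv
          exact Subtype.ext (conj_eq_one_iff.1 hv.symm)
  · -- the axial four-group
    refine Or.inl (hklein gsA id (fun _ _ => rfl) (fun _ _ h => h) (fun w => ⟨w, rfl⟩) act_A rfl ?_ ?_)
    · intro j
      fin_cases j
      · exact map_one ρ
      · exact hb
      · show ρ (.sr 2) = 1
        rw [show (DihedralGroup.sr 2 : DihedralGroup 4) = .sr 0 * DihedralGroup.r 1 ^ 2 by decide, map_mul,
          map_pow, hb, ha, neg_one_sq, one_mul]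
      · show ρ (.r 2) = 1
        rw [show (DihedralGroup.r 2 : DihedralGroup 4) = DihedralGroup.r 1 ^ 2 by decide, map_pow, ha, neg_one_sq]
    · intro g hg
      obtain ⟨k, ⟨rfl, e⟩ | ⟨rfl, e⟩⟩ := hcase g
      · rw [e, ha] at hg
        fin_cases k
        · exact ⟨0, by decide⟩
        · exact absurd (by simpa using hg) hne1
        · exact ⟨3, by decide⟩
        · exact absurd (by simpa [pow_succ] using hg) hne1
      · rw [e, ha, hb, one_mul] at hg
        fin_cases k
        · exact ⟨1, by decide⟩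
        · exact absurd (by simpa using hg) hne1
        · exact ⟨2, by decide⟩
        · exact absurd (by simpa [pow_succ] using hg) hne1
  · -- the diagonal four-group
    obtain ⟨t1, t2, t3⟩ := tmB_facts
    refine Or.inl (hklein gsB tmB t1 t2 t3 act_B rfl ?_ ?_)
    · intro j
      fin_cases j
      · exact map_one ρ
      · show ρ (.sr 3) = 1
        rw [show (DihedralGroup.sr 3 : DihedralGroup 4) = .sr 0 * DihedralGroup.r 1 ^ 3 by decide, map_mul,
          map_pow, hb, ha]
        simp [pow_succ]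
      · show ρ (.sr 1) = 1
        rw [show (DihedralGroup.sr 1 : DihedralGroup 4) = .sr 0 * DihedralGroup.r 1 by decide, map_mul, hb, ha,
          neg_mul_neg, one_mul]
      · show ρ (.r 2) = 1
        rw [show (DihedralGroup.r 2 : DihedralGroup 4) = DihedralGroup.r 1 ^ 2 by decide, map_pow, ha, neg_one_sq]
    · intro g hg
      obtain ⟨k, ⟨rfl, e⟩ | ⟨rfl, e⟩⟩ := hcase g
      · rw [e, ha] at hg
        fin_cases k
        · exact ⟨0, by decide⟩
        · exact absurd (by simpa using hg) hne1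
        · exact ⟨3, by decide⟩
        · exact absurd (by simpa [pow_succ] using hg) hne1
      · rw [e, ha, hb] at hg
        fin_cases k
        · exact absurd (by simpa using hg) hne1
        · exact ⟨2, by decide⟩
        · exact absurd (by simpa [pow_succ] using hg) hne1
        · exact ⟨1, by decide⟩

end CfsgLib.Char.NineSym
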